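import Mathlib.Data.ZMod.QuotientGroup
import Mathlib.LinearAlgebra.BilinearForm.Basic
import Mathlib.LinearAlgebra.BilinearForm.Hom
import Mathlib.LinearAlgebra.BilinearForm.Properties
import Mathlib.LinearAlgebra.FreeModule.PID
import Mathlib.LinearAlgebra.Dimension.Constructions
import Mathlib.LinearAlgebra.Pi
import Mathlib.RingTheory.PrincipalIdealDomain
import Mathlib.Algebra.GCDMonoid.Finset
import Mathlib.RingTheory.Int.Basic
import Mathlib.GroupTheory.SpecificGroups.Cyclic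
import Mathlib.Tactic.Ring
import Mathlib.Tactic.LinearCombination

namespace Groth.L2.BoundaryForms

/-- A vector of `ℤ^(n+1)` is its content times the first member of a basis. -/
theorem exists_equiv {n : ℕ} (d : Fin (n + 1) → ℤ) :
    ∃ U : (Fin (n + 1) → ℤ) ≃ₗ[ℤ] (Fin (n + 1) → ℤ), U d = Pi.single 0 (Finset.univ.gcd d) := by
  by_cases hd : d = 0
  · refine ⟨LinearEquiv.refl ℤ _, ?_⟩
    have h : Finset.univ.gcd d = 0 := Finset.gcd_eq_zero_iff.2 fun i _ => by simp [hd]
    rw [h, hd, map_zero, Pi.single_zero]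
  obtain ⟨g, hg, hg1⟩ := Finset.extract_gcd d Finset.univ_nonempty
  obtain ⟨c, hc⟩ := Finset.gcd_eq_sum_mul Finset.univ g
  rw [hg1] at hc
  let D := Finset.univ.gcd d
  let f : (Fin (n + 1) → ℤ) →ₗ[ℤ] ℤ := Fintype.linearCombination ℤ c
  have hfg : f g = 1 := by
    rw [hc]
    simp [f, Fintype.linearCombination_apply, mul_comm]
  let s : (Fin (n + 1) → ℤ) ≃ₗ[ℤ] ℤ × LinearMap.ker f :=
    { toFun := fun x => (f x, ⟨x - f x • g, by rw [LinearMap.mem_ker, map_sub, map_smul, hfg, smul_eq_mul, mul_one, sub_self]⟩)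
      map_add' := fun x y => by
        refine Prod.ext (map_add f x y) (Subtype.ext ?_)
        simp [add_smul]; abel
      map_smul' := fun a x => by
        refine Prod.ext (map_smul f a x) (Subtype.ext ?_)
        show a • x - f (a • x) • g = a • (x - f x • g)
        rw [map_smul, smul_sub, smul_eq_mul, mul_smul]
      invFun := fun w => w.1 • g + w.2
      left_inv := fun x => by simp
      right_inv := fun w => by
        have h := w.2.2
        rw [LinearMap.mem_ker] at h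
        have h' : f (w.1 • g + ↑w.2) = w.1 := by rw [map_add, map_smul, hfg, h, smul_eq_mul, mul_one, add_zero]
        refine Prod.ext h' (Subtype.ext ?_)
        show w.1 • g + ↑w.2 - f (w.1 • g + ↑w.2) • g = ↑w.2
        rw [h', add_sub_cancel_left] }
  have hrank : Module.finrank ℤ (LinearMap.ker f) = n := by
    have h := s.finrank_eq
    rw [Module.finrank_fin_fun, Module.finrank_prod, Module.finrank_self] at h
    omega
  let b := Module.finBasisOfFinrankEq ℤ (LinearMap.ker f) hrank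
  let U := s.trans (((LinearEquiv.refl ℤ ℤ).prodCongr b.equivFun).trans (Fin.consLinearEquiv ℤ (fun _ : Fin (n + 1) => ℤ)))
  refine ⟨U, ?_⟩
  have hd' : d = D • g := funext fun i => hg i (Finset.mem_univ i)
  have hsg : s g = (1, 0) := Prod.ext hfg (Subtype.ext (by simp [s, hfg]))
  conv_lhs => rw [hd', map_smul]
  simp only [U, LinearEquiv.trans_apply, hsg]
  funext i
  induction i using Fin.cases <;> simp [D]

variable {n : ℕ} (δ : ℕ) (g : ℤ) (d : Fin (n + 1) → ℤ)

/-- Coordinates of a homomorphism in a basis adapted to `d`. -/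
noncomputable def coords (U : (Fin (n + 1) → ℤ) ≃ₗ[ℤ] (Fin (n + 1) → ℤ)) :
    ((Fin (n + 1) → ℤ) →+ ZMod δ) ≃+ ZMod δ × (Fin n → ZMod δ) where
  toFun φ := (φ (U.symm (Pi.single 0 1)), fun i : Fin n => φ (U.symm (Pi.single i.succ (1 : ℤ))))
  invFun v := AddMonoidHom.mk' (fun x => U x 0 • v.1 + ∑ i, U x i.succ • v.2 i) fun x y => by
    simp only [map_add, Pi.add_apply, add_smul, Finset.sum_add_distrib]; abel
  left_inv φ := by
    refine DFunLike.ext _ _ fun x => ?_
    have hx : x = U x 0 • U.symm (Pi.single 0 (1 : ℤ)) + ∑ i : Fin n, U x i.succ • U.symm (Pi.single i.succ (1 : ℤ)) := by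
      apply U.injective
      simp only [map_add, map_sum, map_smul, LinearEquiv.apply_symm_apply]
      conv_lhs => rw [pi_eq_sum_univ' (U x), Fin.sum_univ_succ]
    conv_rhs => rw [hx]
    simp only [AddMonoidHom.mk'_apply, map_add, map_sum, map_zsmul]
  right_inv v := by
    refine Prod.ext ?_ (funext fun i => ?_)
    · simp [Pi.single_apply, Fin.succ_ne_zero]
    · simp [Pi.single_apply, eq_comm (a := (0 : Fin (n + 1)))]
  map_add' φ ψ := rfl

/-- The boundary forms. -/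
def H : AddSubgroup ((Fin (n + 1) → ℤ) →+ ZMod δ) :=
  AddSubgroup.closure
      {φ : (Fin (n + 1) → ℤ) →+ ZMod δ | ∃ b : LinearMap.BilinForm ℤ (Fin (n + 1) → ℤ), b.IsSymm ∧
      ∀ x, φ x = ((b d x + (1 - g) * b x x : ℤ) : ZMod δ)}

theorem map_H (hδ : (δ : ℤ) ∣ 2 * (g - 1)) (U : (Fin (n + 1) → ℤ) ≃ₗ[ℤ] (Fin (n + 1) → ℤ))
    (hU : U d = Pi.single 0 (Finset.univ.gcd d)) :
    (H δ g d).map (coords δ U).toAddMonoidHom =
      (AddSubgroup.zmultiples ((Finset.univ.gcd d + 1 - g : ℤ) : ZMod δ)).prod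
        (AddSubgroup.pi Set.univ fun _ : Fin n =>
          AddSubgroup.zmultiples (((Int.gcd (g - 1) (Finset.univ.gcd d) : ℕ) : ℤ) : ZMod δ)) := by
  classical
  let D := Finset.univ.gcd d
  let a : ℤ := ((Int.gcd (g - 1) D : ℕ) : ℤ)
  have hdU : ∀ j, U (U.symm (Pi.single j (1 : ℤ))) = Pi.single j 1 := fun j => U.apply_symm_apply _
  have hd : d = D • U.symm (Pi.single 0 1) := by
    apply U.injective
    rw [map_smul, hdU, hU, ← Pi.single_smul', smul_eq_mul, mul_one]
  refine le_antisymm ?_ ?_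
  · rw [H, AddMonoidHom.map_closure, AddSubgroup.closure_le]
    rintro _ ⟨φ, ⟨b, hb, hφ⟩, rfl⟩
    have hbd : ∀ y, b d y = D * b (U.symm (Pi.single 0 1)) y := fun y => by
      conv_lhs => rw [hd]
      rw [map_smul, LinearMap.smul_apply, smul_eq_mul]
    refine ⟨AddSubgroup.mem_zmultiples_iff.2 ⟨b (U.symm (Pi.single 0 1)) (U.symm (Pi.single 0 1)), ?_⟩, fun i _ => ?_⟩
    · show _ = φ _
      rw [hφ, zsmul_eq_mul, hbd]
      push_cast
      ring
    · show φ _ ∈ _
      rw [hφ, hbd]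
      obtain ⟨p, hp⟩ := Int.gcd_dvd_left (g - 1) D
      obtain ⟨q, hq⟩ := Int.gcd_dvd_right (g - 1) D
      refine AddSubgroup.mem_zmultiples_iff.2 ⟨q * b (U.symm (Pi.single 0 1)) (U.symm (Pi.single i.succ 1)) - p * b (U.symm (Pi.single i.succ 1)) (U.symm (Pi.single i.succ 1)), ?_⟩
      rw [zsmul_eq_mul, ← Int.cast_mul]
      congr 1
      linear_combination (-(b (U.symm (Pi.single 0 1)) (U.symm (Pi.single i.succ 1)))) * hq + (b (U.symm (Pi.single i.succ 1)) (U.symm (Pi.single i.succ 1))) * hp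
  · have key : ∀ b : LinearMap.BilinForm ℤ (Fin (n + 1) → ℤ), b.IsSymm →
        ∃ φ ∈ H δ g d, ∀ x, φ x = ((b d x + (1 - g) * b x x : ℤ) : ZMod δ) := by
      intro b hb
      refine ⟨AddMonoidHom.mk' (fun x => ((b d x + (1 - g) * b x x : ℤ) : ZMod δ)) fun x y => ?_,
        AddSubgroup.subset_closure ⟨b, hb, fun x => rfl⟩, fun x => rfl⟩
      rw [← Int.cast_add, ZMod.intCast_eq_intCast_iff_dvd_sub]
      obtain ⟨q, hq⟩ := hδ
      refine ⟨q * b x y, ?_⟩
      simp only [map_add, LinearMap.add_apply]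
      have hs : b y x = b x y := hb.eq y x
      linear_combination (b x y) * hq + (g - 1) * hs
    let π : Fin (n + 1) → ((Fin (n + 1) → ℤ) →ₗ[ℤ] ℤ) := fun i => (LinearMap.proj i) ∘ₗ U.toLinearMap
    have hπ : ∀ i j, π i (U.symm (Pi.single j 1)) = if i = j then 1 else 0 := fun i j => by
      simp [π, Pi.single_apply]
    let B : Fin (n + 1) → Fin (n + 1) → LinearMap.BilinForm ℤ (Fin (n + 1) → ℤ) := fun i j =>
      LinearMap.mk₂ ℤ (fun x y => π i x * π j y) (fun x y z => by simp [add_mul]) (fun c x y => by rw [map_smul, smul_eq_mul, smul_eq_mul, mul_assoc])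
        (fun x y z => by simp [mul_add]) (fun c x y => by rw [map_smul, smul_eq_mul, smul_eq_mul, mul_left_comm])
    have hB : ∀ i, (B i i).IsSymm := fun i => ⟨fun x y => by simp [B, mul_comm]⟩
    have hB2 : ∀ i j, (B i j + B j i).IsSymm := fun i j => ⟨fun x y => by simp [B, mul_comm, add_comm]⟩
    have h0 : ∀ j, π j d = if j = 0 then D else 0 := fun j => by
      rw [hd, map_smul, hπ]; split_ifs <;> simp
    let Q := (H δ g d).map (coords δ U).toAddMonoidHom
    have hfirst : ((((D + 1 - g : ℤ) : ZMod δ)), (0 : Fin n → ZMod δ)) ∈ Q := by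
      obtain ⟨φ, hφ, he⟩ := key _ (hB 0)
      refine ⟨φ, hφ, Prod.ext ?_ (funext fun i => ?_)⟩
      · show φ _ = _
        rw [he]; simp [B, hπ, h0]; ring
      · show φ _ = _
        rw [he]; simp [B, hπ, h0, (Fin.succ_ne_zero i).symm]
    have hrest : ∀ i : Fin n, ((0 : ZMod δ), Pi.single (M := fun _ : Fin n => ZMod δ) i ((a : ℤ) : ZMod δ)) ∈ Q := by
      intro i
      have hi := (Fin.succ_ne_zero i).symm
      have h1 : ((0 : ZMod δ), Pi.single (M := fun _ : Fin n => ZMod δ) i ((D : ℤ) : ZMod δ)) ∈ Q := by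
        obtain ⟨φ, hφ, he⟩ := key _ (hB2 0 i.succ)
        refine ⟨φ, hφ, Prod.ext ?_ (funext fun j => ?_)⟩
        · show φ _ = _
          rw [he]; simp [B, hπ, h0, hi, Fin.succ_ne_zero]
        · show φ _ = _
          rw [he]
          by_cases hij : j = i
          · subst hij; simp [B, hπ, h0, hi, Fin.succ_ne_zero]
          · simp [B, hπ, h0, hi, Fin.succ_ne_zero, (Fin.succ_ne_zero j).symm, hij, Ne.symm hij]
      have h2 : ((0 : ZMod δ), Pi.single (M := fun _ : Fin n => ZMod δ) i ((1 - g : ℤ) : ZMod δ)) ∈ Q := by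
        obtain ⟨φ, hφ, he⟩ := key _ (hB i.succ)
        refine ⟨φ, hφ, Prod.ext ?_ (funext fun j => ?_)⟩
        · show φ _ = _
          rw [he]; simp [B, hπ, h0, Fin.succ_ne_zero]
        · show φ _ = _
          rw [he]
          by_cases hij : j = i
          · subst hij; simp [B, hπ, h0, Fin.succ_ne_zero]
          · simp [B, hπ, h0, Fin.succ_ne_zero, hij, Ne.symm hij]
      have h3 : ((0 : ZMod δ), Pi.single (M := fun _ : Fin n => ZMod δ) i ((a : ℤ) : ZMod δ)) =
          (-Int.gcdA (g - 1) D) • ((0 : ZMod δ), Pi.single (M := fun _ : Fin n => ZMod δ) i ((1 - g : ℤ) : ZMod δ)) +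
            (Int.gcdB (g - 1) D) • ((0 : ZMod δ), Pi.single (M := fun _ : Fin n => ZMod δ) i ((D : ℤ) : ZMod δ)) := by
        refine Prod.ext (by simp) ?_
        simp only [Prod.snd_add, Prod.smul_snd, ← Pi.single_smul', ← Pi.single_add]
        congr 1
        simp only [a, Int.gcd_eq_gcd_ab, zsmul_eq_mul]
        push_cast; ring
      rw [h3]
      exact add_mem (AddSubgroup.zsmul_mem _ h2 _) (AddSubgroup.zsmul_mem _ h1 _)
    rintro ⟨x, v⟩ ⟨hx, hv⟩
    obtain ⟨m, rfl⟩ := AddSubgroup.mem_zmultiples_iff.1 hx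
    choose l hl using fun i => AddSubgroup.mem_zmultiples_iff.1 (hv i trivial)
    have hsum : ((m • ((D + 1 - g : ℤ) : ZMod δ), v) : ZMod δ × (Fin n → ZMod δ)) =
        m • (((D + 1 - g : ℤ) : ZMod δ), (0 : Fin n → ZMod δ)) + ∑ i, l i • ((0 : ZMod δ), Pi.single (M := fun _ : Fin n => ZMod δ) i ((a : ℤ) : ZMod δ)) := by
      refine Prod.ext (by simp [Prod.fst_sum]) ?_
      simp only [Prod.snd_add, Prod.smul_snd, smul_zero, zero_add, Prod.snd_sum, ← Pi.single_smul']
      funext j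
      rw [Finset.sum_apply, Finset.sum_eq_single j (fun b _ hb => Pi.single_eq_of_ne hb.symm _) (by simp), Pi.single_eq_same]
      exact (hl j).symm
    show _ ∈ Q
    rw [hsum]
    exact add_mem (AddSubgroup.zsmul_mem _ hfirst _) (sum_mem fun i _ => AddSubgroup.zsmul_mem _ (hrest i) _)

theorem ker_cast (a : ℤ) :
    (ZMod.castHom (n := δ) (Int.natCast_dvd_natCast.1 (Int.gcd_dvd_left (δ : ℤ) a)) (ZMod (Int.gcd δ a))).toAddMonoidHom.ker =
      AddSubgroup.zmultiples (a : ZMod δ) := by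
  ext x
  obtain ⟨z, rfl⟩ := ZMod.intCast_surjective x
  rw [AddMonoidHom.mem_ker, RingHom.toAddMonoidHom_eq_coe, AddMonoidHom.coe_coe, map_intCast,
    ZMod.intCast_zmod_eq_zero_iff_dvd, AddSubgroup.mem_zmultiples_iff]
  constructor
  · rintro ⟨q, rfl⟩
    refine ⟨q * Int.gcdB δ a, ?_⟩
    rw [Int.gcd_eq_gcd_ab, zsmul_eq_mul]
    push_cast
    rw [ZMod.natCast_self]; ring
  · rintro ⟨k, hk⟩
    rw [zsmul_eq_mul, ← Int.cast_mul, ZMod.intCast_eq_intCast_iff_dvd_sub] at hk
    have h := dvd_add ((Int.gcd_dvd_left (δ : ℤ) a).trans hk) ((Int.gcd_dvd_right (δ : ℤ) a).mul_left k)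
    simpa using h

theorem quotient_equiv (hδ : (δ : ℤ) ∣ 2 * (g - 1)) :
    Nonempty ((((Fin (n + 1) → ℤ) →+ ZMod δ) ⧸ H δ g d) ≃+
      (ZMod (Int.gcd δ (Finset.univ.gcd d + 1 - g)) ×
        (Fin n → ZMod (Int.gcd δ (Int.gcd (g - 1) (Finset.univ.gcd d)))))) := by
  obtain ⟨U, hU⟩ := exists_equiv d
  let π : ∀ a : ℤ, ZMod δ →+ ZMod (Int.gcd δ a) := fun a =>
    (ZMod.castHom (n := δ) (Int.natCast_dvd_natCast.1 (Int.gcd_dvd_left (δ : ℤ) a)) (ZMod (Int.gcd δ a))).toAddMonoidHom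
  let F : ZMod δ × (Fin n → ZMod δ) →+ ZMod (Int.gcd δ (Finset.univ.gcd d + 1 - g)) ×
        (Fin n → ZMod (Int.gcd δ (Int.gcd (g - 1) (Finset.univ.gcd d)))) :=
    AddMonoidHom.prodMap (π _) ((π _).compLeft (Fin n))
  let G := F.comp (coords δ U).toAddMonoidHom
  have hker : G.ker = H δ g d := by
    apply AddSubgroup.map_injective (f := (coords δ U).toAddMonoidHom) (coords δ U).injective
    rw [map_H δ g d hδ U hU]
    ext ⟨x, v⟩
    rw [AddSubgroup.mem_map_equiv, AddMonoidHom.mem_ker]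
    simp only [G, F, π, AddMonoidHom.coe_comp, Function.comp_apply, AddEquiv.coe_toAddMonoidHom, AddEquiv.apply_symm_apply,
      AddMonoidHom.prodMap, AddMonoidHom.prod_apply, AddMonoidHom.coe_fst, AddMonoidHom.coe_snd, AddSubgroup.mem_prod,
      AddSubgroup.mem_pi, ← ker_cast, AddMonoidHom.mem_ker, Prod.ext_iff, funext_iff, Prod.fst_zero, Prod.snd_zero]
    simp
  have hsurj : Function.Surjective G :=
    (Function.Surjective.prodMap (ZMod.castHom_surjective (Int.natCast_dvd_natCast.1 (Int.gcd_dvd_left (δ : ℤ) _))) (ZMod.castHom_surjective (Int.natCast_dvd_natCast.1 (Int.gcd_dvd_left (δ : ℤ) _))).comp_left).comp (coords δ U).surjective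
  exact ⟨(QuotientAddGroup.quotientAddEquivOfEq hker.symm).trans (QuotientAddGroup.quotientKerEquivOfSurjective G hsurj)⟩

theorem zmultiples_equiv (hδ0 : 0 < δ) (a : ℤ) :
    Nonempty (AddSubgroup.zmultiples (a : ZMod δ) ≃+ ZMod (δ / Int.gcd δ a)) := by
  have hord : addOrderOf (a : ZMod δ) = δ / Int.gcd δ a := by
    rcases Int.natAbs_eq a with h | h <;> conv_lhs => rw [h]
    · rw [Int.cast_natCast, ZMod.addOrderOf_coe _ hδ0.ne']; rfl
    · rw [Int.cast_neg, addOrderOf_neg, Int.cast_natCast, ZMod.addOrderOf_coe _ hδ0.ne']; rfl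
  refine ⟨((zmodAddCyclicAddEquiv (G := AddSubgroup.zmultiples (a : ZMod δ)) inferInstance).symm).trans ?_⟩
  rw [Nat.card_zmultiples, hord]

theorem subgroup_equiv (hδ0 : 0 < δ) (hδ : (δ : ℤ) ∣ 2 * (g - 1)) :
    Nonempty (H δ g d ≃+
      (ZMod (δ / Int.gcd δ (Finset.univ.gcd d + 1 - g)) ×
        (Fin n → ZMod (δ / Int.gcd δ (Int.gcd (g - 1) (Finset.univ.gcd d)))))) := by
  obtain ⟨U, hU⟩ := exists_equiv d
  obtain ⟨e0⟩ := zmultiples_equiv δ hδ0 (Finset.univ.gcd d + 1 - g)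
  obtain ⟨e1⟩ := zmultiples_equiv δ hδ0 ((Int.gcd (g - 1) (Finset.univ.gcd d) : ℕ) : ℤ)
  refine ⟨(((coords δ U).addSubgroupMap (H δ g d)).trans (AddEquiv.addSubgroupCongr (map_H δ g d hδ U hU))).trans
    (AddEquiv.trans ?_ (e0.prodCongr (AddEquiv.piCongrRight fun _ => e1)))⟩
  exact
    { toFun := fun z => (⟨z.1.1, z.2.1⟩, fun i => ⟨z.1.2 i, z.2.2 i trivial⟩)
      invFun := fun w => ⟨(w.1.1, fun i => (w.2 i).1), ⟨w.1.2, fun i _ => (w.2 i).2⟩⟩
      left_inv := fun _ => rfl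
      right_inv := fun _ => rfl
      map_add' := fun _ _ => rfl }

end Groth.L2.BoundaryForms
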